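import Groth.Prelude.Def_FEt
import Groth.Agent.S0289
import Groth.Agent.S0242
import Groth.Agent.GeomIrred.ClopenDescend
import Groth.Agent.PropPi1.Surj
import Mathlib.FieldTheory.IsSepClosed
/-!
Finite étale covers of proper schemes and extensions of separably closed fields.
-/

set_option autoImplicit false
set_option backward.isDefEq.respectTransparency false

universe u

open CategoryTheory CategoryTheory.Limits AlgebraicGeometry

namespace Groth.Agent.SepClosedBC

theorem isEquivalence_purelyInseparable (L M : Type u) [Field L] [Field M] [Algebra L M]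
    [IsPurelyInseparable L M] {X : Scheme.{u}} (f : X ⟶ Spec (CommRingCat.of L)) :
    (FEt.restrict (pullback.fst f (Spec.map (CommRingCat.ofHom (algebraMap L M))))).IsEquivalence := by
  haveI := GeomIrred.universallyInjective_specMap L M
  haveI : IsIntegralHom (Spec.map (CommRingCat.ofHom (algebraMap L M))) := by
    rw [IsIntegralHom.SpecMap_iff]
    exact fun x => Algebra.IsIntegral.isIntegral (R := L) x
  haveI : Surjective (Spec.map (CommRingCat.ofHom (algebraMap L M))) :=
    ⟨fun x => ⟨(PrimeSpectrum.instUnique (R := M)).default, Subsingleton.elim _ _⟩⟩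
  set q := Spec.map (CommRingCat.ofHom (algebraMap L M))
  haveI : IsIntegralHom (pullback.fst f q) := MorphismProperty.pullback_fst _ _ ‹_›
  haveI : UniversallyInjective (pullback.fst f q) := MorphismProperty.pullback_fst _ _ ‹_›
  haveI : Surjective (pullback.fst f q) := MorphismProperty.pullback_fst _ _ ‹_›
  exact S0289.result (pullback.fst f q)

theorem isEquivalence_restrict_of_isIso {X Y : Scheme.{u}} (e : X ⟶ Y) [IsIso e] :
    (FEt.restrict e).IsEquivalence :=
  S0289.result e

theorem isEquivalence_restrict_comp {X Y Z : Scheme.{u}} (f : X ⟶ Y) (g : Y ⟶ Z)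
    [(FEt.restrict f).IsEquivalence] [(FEt.restrict g).IsEquivalence] :
    (FEt.restrict (f ≫ g)).IsEquivalence :=
  Functor.isEquivalence_of_iso (PropPi1.restrictCompIso f g).symm

theorem isEquivalence_sepClosed_baseChange (k K : Type u) [Field k] [Field K] [IsSepClosed k]
    [IsSepClosed K] [Algebra k K] {X : Scheme.{u}} (f : X ⟶ Spec (CommRingCat.of k)) [IsProper f] :
    (FEt.restrict (pullback.fst f (Spec.map (CommRingCat.ofHom (algebraMap k K))))).IsEquivalence := by
  haveI : IsPurelyInseparable k (AlgebraicClosure k) :=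
    Algebra.IsAlgebraic.isPurelyInseparable_of_isSepClosed
  haveI : IsPurelyInseparable K (AlgebraicClosure K) :=
    Algebra.IsAlgebraic.isPurelyInseparable_of_isSepClosed
  let φ : AlgebraicClosure k →ₐ[k] AlgebraicClosure K := IsAlgClosed.lift
  letI : Algebra (AlgebraicClosure k) (AlgebraicClosure K) := φ.toRingHom.toAlgebra
  let qK := Spec.map (CommRingCat.ofHom (algebraMap k K))
  let qkb := Spec.map (CommRingCat.ofHom (algebraMap k (AlgebraicClosure k)))
  let qKb := Spec.map (CommRingCat.ofHom (algebraMap K (AlgebraicClosure K)))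
  let qφ := Spec.map (CommRingCat.ofHom (algebraMap (AlgebraicClosure k) (AlgebraicClosure K)))
  have hq : qKb ≫ qK = qφ ≫ qkb := by
    show Spec.map _ ≫ Spec.map _ = Spec.map _ ≫ Spec.map _
    rw [← Spec.map_comp, ← Spec.map_comp, ← CommRingCat.ofHom_comp, ← CommRingCat.ofHom_comp]
    congr 2
    ext x
    show algebraMap K (AlgebraicClosure K) (algebraMap k K x) = φ (algebraMap k (AlgebraicClosure k) x)
    rw [φ.commutes, ← IsScalarTower.algebraMap_apply]
  haveI h1 : (FEt.restrict (pullback.fst (pullback.snd f qK) qKb)).IsEquivalence :=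
    isEquivalence_purelyInseparable K (AlgebraicClosure K) (pullback.snd f qK)
  haveI h2 : (FEt.restrict (pullback.fst f qkb)).IsEquivalence :=
    isEquivalence_purelyInseparable k (AlgebraicClosure k) f
  haveI h3 : (FEt.restrict (pullback.fst (pullback.snd f qkb) qφ)).IsEquivalence :=
    S0242.result (AlgebraicClosure k) (AlgebraicClosure K) (pullback.snd f qkb)
  have s1 : IsPullback (pullback.fst (pullback.snd f qK) qKb ≫ pullback.fst f qK)
      (pullback.snd (pullback.snd f qK) qKb) f (qKb ≫ qK) :=
    (IsPullback.of_hasPullback (pullback.snd f qK) qKb).paste_horiz (IsPullback.of_hasPullback f qK)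
  have s2 : IsPullback (pullback.fst (pullback.snd f qkb) qφ ≫ pullback.fst f qkb)
      (pullback.snd (pullback.snd f qkb) qφ) f (qKb ≫ qK) := by
    rw [hq]
    exact (IsPullback.of_hasPullback (pullback.snd f qkb) qφ).paste_horiz (IsPullback.of_hasPullback f qkb)
  have he := s1.isoIsPullback_hom_fst _ _ s2
  haveI := isEquivalence_restrict_of_isIso (s1.isoIsPullback _ _ s2).hom
  haveI := isEquivalence_restrict_comp (pullback.fst (pullback.snd f qkb) qφ) (pullback.fst f qkb)
  haveI h4 : (FEt.restrict (pullback.fst (pullback.snd f qK) qKb ≫ pullback.fst f qK)).IsEquivalence := by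
    rw [← he]
    exact isEquivalence_restrict_comp _ _
  haveI : (FEt.restrict (pullback.fst f qK) ⋙
      FEt.restrict (pullback.fst (pullback.snd f qK) qKb)).IsEquivalence :=
    Functor.isEquivalence_of_iso (PropPi1.restrictCompIso _ _)
  exact Functor.isEquivalence_of_comp_right (FEt.restrict (pullback.fst f qK))
    (FEt.restrict (pullback.fst (pullback.snd f qK) qKb))

end Groth.Agent.SepClosedBC
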